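import Mathlib

/-!
# Universal closedness from finitely many finite pieces
-/

set_option autoImplicit false
universe u
open CategoryTheory CategoryTheory.Limits AlgebraicGeometry

namespace AlgSpEtSplit

/-- A morphism is universally closed if finitely many jointly surjective morphisms to its source are finite over the
target. -/
theorem universallyClosed_of_jointly_surjective {P V : Scheme.{u}} (m : P ⟶ V) {σ : Type*} [Finite σ]
    {T : σ → Scheme.{u}} (t : ∀ i, T i ⟶ P) [∀ i, UniversallyClosed (t i ≫ m)]
    (hs : ∀ p, ∃ i, p ∈ Set.range (t i)) : UniversallyClosed m := by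
  refine ⟨MorphismProperty.universally_mk' _ _ fun {V'} g _ C hC => ?_⟩
  let s : ∀ i, pullback g (t i ≫ m) ⟶ pullback g m := fun i =>
    pullback.map g (t i ≫ m) g m (𝟙 _) (t i) (𝟙 _) (by simp) (by simp)
  have h1 : ∀ i, s i ≫ pullback.fst g m = pullback.fst g (t i ≫ m) := fun i => by
    simp only [s, pullback.map, pullback.lift_fst, Category.comp_id]
  have : pullback.fst g m '' C = ⋃ i, pullback.fst g (t i ≫ m) '' (s i ⁻¹' C) := by
    ext q
    simp only [Set.mem_iUnion, Set.mem_image, Set.mem_preimage]
    constructor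
    · rintro ⟨c, hc, rfl⟩
      obtain ⟨i, hi⟩ := hs (pullback.snd g m c)
      obtain ⟨w, rfl⟩ : c ∈ Set.range (s i) := by
        rw [Scheme.Pullback.range_map]
        exact ⟨⟨pullback.fst g m c, rfl⟩, hi⟩
      exact ⟨i, w, hc, by rw [← h1, Scheme.Hom.comp_apply]⟩
    · rintro ⟨i, w, hw, rfl⟩
      exact ⟨s i w, hw, by rw [← h1, Scheme.Hom.comp_apply]⟩
  rw [this]
  exact isClosed_iUnion_of_finite fun i => (pullback.fst g (t i ≫ m)).isClosedMap _ (hC.preimage (s i).continuous)

end AlgSpEtSplit
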