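import Groth.Agent.AlgSpLib.FiniteNhd
import Groth.Agent.AlgSpLib.SepLqfScheme
import Groth.Agent.AlgSpLib.UnivClosed
import Groth.Agent.AlgSpEtSplit.Univ
import Groth.Agent.S1482

/-!
# Etale splitting of quasi-finite points of separated morphisms of algebraic spaces
-/

set_option autoImplicit false
set_option backward.isDefEq.respectTransparency false
set_option backward.isDefEq.respectTransparency.types false
universe u
open CategoryTheory CategoryTheory.Limits AlgebraicGeometry
open AlgSp AlgSpLib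

namespace AlgSpEtSplit

variable {S : Scheme.{u}}

theorem range_map_eq_range_ofPt {F : Sp S} {T : Over S} (a : (yon S).obj T ⟶ F) :
    Set.range (Points.map a) = Set.range (Points.ofPt a) := by
  ext y
  constructor
  · rintro ⟨z, rfl⟩
    exact ⟨Points.toScheme T z, by rw [Points.ofPt_eq_map_ofScheme, Points.ofScheme_toScheme]⟩
  · rintro ⟨t, rfl⟩
    exact ⟨_, (Points.ofPt_eq_map_ofScheme a t).symm⟩

theorem toScheme_eq_of_ofPt_yon {T T' : Over S} (φ : T ⟶ T') (t : T.left) (t' : T'.left)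
    (h : Points.ofPt ((yon S).map φ) t = Points.ofPt (𝟙 _) t') : φ.left t = t' := by
  have := congrArg (Points.toScheme T') h
  rwa [Points.toScheme_ofPt, Points.toScheme_ofScheme] at this

/-- A clopen open subspace is a closed subspace. -/
theorem repWith_closedImmersion_openSubι {F : Sp S} {K : Set (Points F)} (hK : IsOpen K) (hK' : IsClosed K) :
    RepWith @IsClosedImmersion (openSubι F K) := by
  have hj := repWith_openSubι F hK
  refine ⟨hj.rep, fun T W g fst snd sq => ?_⟩
  haveI : IsOpenImmersion snd.left := hj.property g fst snd sq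
  show IsClosedImmersion snd.left
  refine IsClosedImmersion.of_isPreimmersion _ ?_
  have : Set.range snd.left = Points.ofPt g ⁻¹' K := by
    ext t
    constructor
    · rintro ⟨w, rfl⟩
      have h1 : Points.map (openSubι F K) (Points.ofPt fst w) ∈ Set.range (Points.map (openSubι F K)) := ⟨_, rfl⟩
      rw [range_openSubι, Points.map_ofPt, sq.w, ofPt_yon_comp] at h1
      exact h1
    · intro ht
      have ht' : Points.ofPt g t ∈ Set.range (Points.map (openSubι F K)) := by rwa [range_openSubι]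
      obtain ⟨y, hy⟩ := ht'
      obtain ⟨ω, -, hω⟩ := exists_point_isPullback sq y (Points.ofPt (𝟙 _) t)
        (by rw [hy, Points.map_ofPt, Category.id_comp])
      refine ⟨Points.toScheme W ω, ?_⟩
      rw [← Points.ofScheme_toScheme W ω, Points.map_ofPt, Category.id_comp] at hω
      exact toScheme_eq_of_ofPt_yon _ _ _ hω
  rw [this]
  exact hK'.preimage (Points.continuous_ofPt g)

/-- A separated space over a scheme, covered by finitely many etale pieces finite over the scheme, is finite. -/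
theorem isFiniteMor_of_pieces {F : Sp S} (hF : IsAlgSpace F) {T : Over S} {φ : F ⟶ (yon S).obj T}
    (hsep : IsSeparatedMor φ) {σ : Type u} [Finite σ] {W : σ → Over S} (l : ∀ k, (yon S).obj (W k) ⟶ F)
    (hl : ∀ k, RepWith @Etale (l k)) (hs : ∀ y : Points F, ∃ k, y ∈ Set.range (Points.ofPt (l k)))
    (τ : ∀ k, W k ⟶ T) (hτ : ∀ k, IsFinite (τ k).left) (hcomm : ∀ k, l k ≫ φ = (yon S).map (τ k)) :
    IsFiniteMor φ := by
  have hqf : LocP (@LocallyQuasiFinite ⊓ @LocallyOfFiniteType) φ := by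
    refine locP_of_cover hF (fun k => IsAlgSpace.yon_obj (W k)) l (fun k => isEtaleMor_of_repWith (hl k))
      (fun y => ?_) fun k => ?_
    · obtain ⟨k, hk⟩ := hs y
      exact ⟨k, (range_map_eq_range_ofPt (l k)).symm ▸ hk⟩
    · rw [hcomm]
      haveI := hτ k
      exact locP_of_repWith ((repWith_yon_map_iff
        (P := (@LocallyQuasiFinite ⊓ @LocallyOfFiniteType : MorphismProperty Scheme.{u})) (τ k)).2
          ⟨inferInstance, inferInstance⟩)
  obtain ⟨M, ⟨e⟩⟩ := isRepSh_of_sep_lqf hF hsep hqf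
  obtain ⟨m, hm⟩ := (yon S).map_surjective (e.hom ≫ φ)
  obtain ⟨(h1 : LocallyQuasiFinite m.left), (h2 : LocallyOfFiniteType m.left)⟩ :=
    hqf e.hom (𝟙 _) m (repWith_of_isIso e.hom) (repWith_id _ _) (by rw [Category.comp_id, hm])
  have hsep' : IsSeparatedMor ((yon S).map m) := by
    rw [hm]; exact isSeparatedMor_comp (isSeparatedMor_of_repWith (repWith_of_isIso e.hom)) hsep
  haveI : IsSeparated m.left := (repWith_yon_map_iff (P := (@IsSeparated : MorphismProperty Scheme.{u})) m).1
    ((repWith_diagonal_iff (P := (@IsClosedImmersion : MorphismProperty Scheme.{u}))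
      (fun g => (isSeparated_iff g).symm) (representable_yon_map m)).1 hsep')
  choose t ht using fun k => (yon S).map_surjective (l k ≫ e.inv)
  have htm : ∀ k, (t k).left ≫ m.left = (τ k).left := fun k => by
    rw [← Over.comp_left]
    exact congrArg (fun q => q.left) ((yon S).map_injective (a₁ := t k ≫ m) (a₂ := τ k) (by
      rw [Functor.map_comp, ht, hm, Category.assoc, e.inv_hom_id_assoc, hcomm k]))
  haveI : ∀ k, UniversallyClosed ((t k).left ≫ m.left) := fun k => by
    rw [htm]; haveI := hτ k; infer_instance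
  haveI : UniversallyClosed m.left := universallyClosed_of_jointly_surjective m.left (fun k => (t k).left) fun p => by
    obtain ⟨k, w, hw⟩ := hs (Points.ofPt e.hom p)
    refine ⟨k, w, toScheme_eq_of_ofPt_yon (t k) w p ?_⟩
    have := congrArg (Points.map e.inv) hw
    rwa [Points.map_ofPt, Points.map_ofPt, ← ht, e.hom_inv_id] at this
  haveI : IsProper m.left := {}
  haveI : IsFinite m.left := IsFinite.of_isProper_of_locallyQuasiFinite m.left
  rw [isFiniteMor_iff, ← (RepWith (S := S) @IsFinite).cancel_left_of_respectsIso e.hom, ← hm]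
  exact (repWith_yon_map_iff (P := (@IsFinite : MorphismProperty Scheme.{u})) m).2 ‹_›

/-- The splitting, in a chart of the target. -/
theorem exists_split {X Y : Space S} (f : X ⟶ Y) (hf1 : LocP @LocallyOfFiniteType f.hom)
    (hf2 : IsSeparatedMor f.hom) {V : Over S} (b : (yon S).obj V ⟶ Y.obj) (hb : RepWith @Etale b) (v : V.left)
    {X' : Over S} (c : (yon S).obj X' ⟶ pullback f.hom b) (hc : RepWith @Etale c) (hcs : RepWith @Surjective c)
    (h : X' ⟶ V) (he : c ≫ pullback.snd f.hom b = (yon S).map h) {ι : Type} [Finite ι] (x : ι → X'.left)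
    (hinj : Function.Injective x) (hs : ∀ i, h.left (x i) = v) (hq : ∀ i, h.left.QuasiFiniteAt (x i)) :
    ∃ (U : Space S) (a : U ⟶ Y) (u : Points U.obj), IsEtaleMor a.hom ∧ Points.map a.hom u = Points.ofPt b v ∧
      ∀ (P : Space S) (prX : P ⟶ X) (prU : P ⟶ U), IsPullback prX.hom prU.hom f.hom a.hom →
        ∃ (Vs : Space S) (jV : Vs ⟶ P), RepWith @IsOpenImmersion jV.hom ∧ RepWith @IsClosedImmersion jV.hom ∧
          IsFiniteMor (jV ≫ prU).hom ∧
          (∀ p : Points Vs.obj, Points.map (jV ≫ prU).hom p = u →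
            ∃ i, Points.map (jV ≫ prX).hom p = Points.map (pullback.fst f.hom b) (Points.ofPt c (x i))) ∧
          (∀ i, ∃ p : Points Vs.obj,
            Points.map (jV ≫ prX).hom p = Points.map (pullback.fst f.hom b) (Points.ofPt c (x i)) ∧
              Points.map (jV ≫ prU).hom p = u) ∧
          ∀ Q : Set (Points X.obj), (∀ ξ : Points (pullback f.hom b),
            Points.map (pullback.snd f.hom b) ξ = Points.ofPt (𝟙 _) v →
              Points.map (pullback.fst f.hom b) ξ ∈ Q → ∃ i, Points.ofPt c (x i) = ξ) →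
            ∀ w : Points P.obj, w ∉ Set.range (Points.map jV.hom) → Points.map prU.hom w = u →
              Points.map prX.hom w ∉ Q := by
  have sqV := IsPullback.of_hasPullback f.hom b
  haveI : LocallyOfFiniteType h.left :=
    locP_of_isPullback X.property Y.property (IsAlgSpace.yon_obj V) sqV hf1 c (𝟙 _) h hc (repWith_id _ _)
      (by rw [he, Category.comp_id])
  obtain ⟨U₀, g, u₀, hg, hgu, J, hJ, O, z, hz, -, hcov⟩ := Groth.Agent.S1482.result h.left v x hinj hs hq
  haveI := hg
  let Uo : Over S := Over.mk (g ≫ V.hom)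
  let gU : Uo ⟶ V := Over.homMk g rfl
  have hgU : RepWith @Etale ((yon S).map gU) :=
    (repWith_yon_map_iff (P := (@Etale : MorphismProperty Scheme.{u})) gU).2 hg
  let U : Space S := ⟨(yon S).obj Uo, IsAlgSpace.yon_obj Uo⟩
  let a : U ⟶ Y := ObjectProperty.homMk ((yon S).map gU ≫ b)
  refine ⟨U, a, Points.ofPt (𝟙 _) u₀, isEtaleMor_of_repWith (repWith_comp hgU hb), ?_, fun P prX prU sq => ?_⟩
  · show Points.map ((yon S).map gU ≫ b) _ = _
    rw [Points.map_ofPt, Category.id_comp, ofPt_yon_comp]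
    exact congrArg _ hgu
  change IsPullback prX.hom prU.hom f.hom ((yon S).map gU ≫ b) at sq
  have sqr := IsPullback.of_right' sq sqV
  obtain ⟨r, rfl⟩ : ∃ r, r = sqV.lift prX.hom (prU.hom ≫ (yon S).map gU) (by rw [sq.w, Category.assoc]) := ⟨_, rfl⟩
  let Wo : Over S := Over.mk (pullback.fst h.left g ≫ X'.hom)
  let q₁ : Wo ⟶ X' := Over.homMk (pullback.fst h.left g) rfl
  let q₂ : Wo ⟶ Uo := Over.homMk (pullback.snd h.left g) (by
    show pullback.snd h.left g ≫ g ≫ V.hom = pullback.fst h.left g ≫ X'.hom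
    rw [← pullback.condition_assoc, Over.w h])
  have sqW : IsPullback ((yon S).map q₁) ((yon S).map q₂) ((yon S).map h) ((yon S).map gU) :=
    (IsPullback.of_map (Over.forget S) (f := q₁) (g := q₂) (h := h) (i := gU)
      (Over.OverMorphism.ext pullback.condition) (IsPullback.of_hasPullback h.left g)).map (yon S)
  have hψw : ((yon S).map q₁ ≫ c) ≫ pullback.snd f.hom b = (yon S).map q₂ ≫ (yon S).map gU := by
    rw [Category.assoc, he, sqW.w]
  let ψ : (yon S).obj Wo ⟶ P.obj := sqr.lift ((yon S).map q₁ ≫ c) ((yon S).map q₂) hψw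
  have hψ₂ : ψ ≫ prU.hom = (yon S).map q₂ := sqr.lift_snd _ _ _
  have hψ₁ : (yon S).map q₁ ≫ c = ψ ≫ sqV.lift prX.hom (prU.hom ≫ (yon S).map gU) _ := (sqr.lift_fst _ _ _).symm
  have sqψ := IsPullback.of_bot (v₁₁ := ψ) (v₁₂ := c) (by rw [hψ₂, he]; exact sqW) hψ₁ sqr
  have hψe : RepWith @Etale ψ := repWith_of_isPullback sqψ hc
  have hψX : ψ ≫ prX.hom = (yon S).map q₁ ≫ c ≫ pullback.fst f.hom b := by
    rw [reassoc_of% hψ₁, sqV.lift_fst]
  -- the pieces
  let σ : Type u := ULift.{u} (Σ i, J i)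
  haveI : Finite σ := by haveI := hJ; infer_instance
  let Ok : σ → (pullback h.left g).Opens := fun k => O k.down.1 k.down.2
  let Vk : σ → Over S := fun k => Over.mk ((Ok k).ι ≫ Wo.hom)
  let ιk : ∀ k, Vk k ⟶ Wo := fun k => Over.homMk (Ok k).ι rfl
  let gk : ∀ k, (yon S).obj (Vk k) ⟶ P.obj := fun k => (yon S).map (ιk k) ≫ ψ
  have hgk : ∀ k, RepWith @Etale (gk k) := fun k => repWith_comp
    ((repWith_yon_map_iff (P := (@Etale : MorphismProperty Scheme.{u})) (ιk k)).2
      (inferInstanceAs (Etale (Ok k).ι))) hψe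
  have hτ : ∀ k, IsFinite (ιk k ≫ q₂).left := fun k => (hz k.down.1 k.down.2).2.1
  have hgk₂ : ∀ k, gk k ≫ prU.hom = (yon S).map (ιk k ≫ q₂) := fun k => by
    rw [Category.assoc, hψ₂, Functor.map_comp]
  have hsU : IsSeparatedMor prU.hom := repWith_diagonal_of_isPullback sq hf2
  let K : Set (Points P.obj) := ⋃ k, Set.range (Points.ofPt (gk k))
  have hKo : IsOpen K := isOpen_iUnion fun k => (isOpenMap_ofPt (hgk k)).isOpen_range
  have hKc : IsClosed K := isClosed_iUnion_of_finite fun k => by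
    rw [← range_map_eq_range_ofPt]
    refine (isClosedMap_of_proper P.property (isProperMor_of_comp (IsAlgSpace.yon_obj (Vk k)) P.property
      U.property hsU ?_)).isClosed_range
    rw [hgk₂]
    exact ((isFiniteMor_iff_affine_proper (IsAlgSpace.yon_obj _) (IsAlgSpace.yon_obj _)).1 (isFiniteMor_iff.2
      ((repWith_yon_map_iff (P := (@IsFinite : MorphismProperty Scheme.{u})) _).2 (hτ k)))).2
  let Vs : Space S := ⟨openSub P.obj K, isAlgSpace_openSub P.property hKo⟩
  let jV : Vs ⟶ P := ObjectProperty.homMk (openSubι P.obj K)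
  have hjo : RepWith @IsOpenImmersion (openSubι P.obj K) := repWith_openSubι _ hKo
  haveI : Mono (openSubι P.obj K) := mono_of_repWith (fun g (_ : IsOpenImmersion g) => inferInstance) hjo
  have hmem : ∀ k w, Points.ofPt (gk k) w ∈ K := fun k w => Set.mem_iUnion.2 ⟨k, w, rfl⟩
  choose lk hlk using fun k => (exists_lift_openSub (W := K) (gk k)).2 (hmem k)
  have hlke : ∀ k, RepWith @Etale (lk k) := fun k => by
    refine repWith_of_isPullback (fst := 𝟙 _) (f := gk k) (g := openSubι P.obj K) ?_ (hgk k)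
    refine isPullback_of_forall_existsUnique (by rw [Category.id_comp, hlk]) fun R p q hpq =>
      ⟨p, ⟨Category.comp_id p, ?_⟩, fun p' hp' => by rw [← hp'.1, Category.comp_id]⟩
    rw [← cancel_mono (openSubι P.obj K), Category.assoc, hlk, hpq]
  have hsurj : ∀ y : Points (openSub P.obj K), ∃ k, y ∈ Set.range (Points.ofPt (lk k)) := fun y => by
    have h1 : Points.map (openSubι P.obj K) y ∈ Set.range (Points.map (openSubι P.obj K)) := ⟨y, rfl⟩
    rw [range_openSubι] at h1
    obtain ⟨k, w, hw⟩ := Set.mem_iUnion.1 h1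
    exact ⟨k, w, injective_map_of_mono (openSubι P.obj K) (by rw [Points.map_ofPt, hlk, hw])⟩
  have hlk₂ : ∀ k, lk k ≫ openSubι P.obj K ≫ prU.hom = (yon S).map (ιk k ≫ q₂) := fun k => by
    rw [reassoc_of% (hlk k), hgk₂]
  have hlk₁ : ∀ k, lk k ≫ openSubι P.obj K ≫ prX.hom =
      (yon S).map (ιk k ≫ q₁) ≫ c ≫ pullback.fst f.hom b := fun k => by
    rw [reassoc_of% (hlk k), Category.assoc, hψX, Functor.map_comp, Category.assoc]
  refine ⟨Vs, jV, hjo, repWith_closedImmersion_openSubι hKo hKc,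
    isFiniteMor_of_pieces Vs.property (isSeparatedMor_comp (isSeparatedMor_of_repWith
      (repWith_mono (fun _ _ g (_ : IsOpenImmersion g) => (inferInstance : IsSeparated g)) hjo)) hsU)
      lk hlke hsurj _ hτ hlk₂, ?_, ?_, ?_⟩
  · intro p hp
    obtain ⟨k, w, rfl⟩ := hsurj p
    change Points.map (openSubι P.obj K ≫ prU.hom) _ = _ at hp
    rw [Points.map_ofPt, hlk₂] at hp
    have hu : q₂.left ((ιk k).left w) = u₀ := by
      rw [← Scheme.Hom.comp_apply, ← Over.comp_left]
      exact toScheme_eq_of_ofPt_yon (ιk k ≫ q₂) w u₀ hp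
    have hw : (ιk k).left w = z k.down.1 k.down.2 :=
      (hz k.down.1 k.down.2).2.2.2.1 _ w.2 hu
    refine ⟨k.down.1, ?_⟩
    show Points.map (openSubι P.obj K ≫ prX.hom) _ = _
    rw [Points.map_ofPt, hlk₁, ofPt_yon_comp, Over.comp_left, Scheme.Hom.comp_apply, hw, Points.map_ofPt]
    exact congrArg _ (hz k.down.1 k.down.2).2.2.2.2.2
  · intro i
    obtain ⟨ζ, hζ₁, hζ₂⟩ := Scheme.Pullback.exists_preimage_pullback (f := h.left) (g := g) (x i) u₀
      ((hs i).trans hgu.symm)
    obtain ⟨j, rfl⟩ := hcov ζ i hζ₂ hζ₁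
    let k : σ := ⟨⟨i, j⟩⟩
    let w : (Vk k).left := ⟨z i j, (hz i j).1⟩
    have hw : (ιk k).left w = z i j := rfl
    refine ⟨Points.ofPt (lk k) w, ?_, ?_⟩
    · show Points.map (openSubι P.obj K ≫ prX.hom) _ = _
      rw [Points.map_ofPt, hlk₁, ofPt_yon_comp, Over.comp_left, Scheme.Hom.comp_apply, hw, Points.map_ofPt]
      exact congrArg _ hζ₁
    · show Points.map (openSubι P.obj K ≫ prU.hom) _ = _
      rw [Points.map_ofPt, hlk₂, ← Category.comp_id ((yon S).map _), ofPt_yon_comp, Over.comp_left,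
        Scheme.Hom.comp_apply, hw]
      exact congrArg _ hζ₂
  · intro Q hQ w hw hwu hwQ
    refine hw ?_
    change w ∈ Set.range (Points.map (openSubι P.obj K))
    rw [range_openSubι]
    have hr₂ : Points.map (pullback.snd f.hom b)
        (Points.map (sqV.lift prX.hom (prU.hom ≫ (yon S).map gU) (by rw [sq.w, Category.assoc])) w) =
          Points.ofPt (𝟙 _) v := by
      rw [← Points.map_comp, sqV.lift_snd, Points.map_comp, hwu]
      show Points.map ((yon S).map gU) (Points.ofPt (𝟙 _) u₀) = _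
      rw [Points.map_ofPt, Category.id_comp, ← Category.comp_id ((yon S).map gU), ofPt_yon_comp]
      exact congrArg _ hgu
    obtain ⟨i, hi⟩ := hQ _ hr₂ (by rwa [← Points.map_comp, sqV.lift_fst])
    obtain ⟨ω, hω₁, hω₂⟩ := exists_point_isPullback sqψ (Points.ofPt (𝟙 _) (x i)) w
      (by rw [Points.map_ofPt, Category.id_comp]; exact hi)
    obtain ⟨ζ, rfl⟩ : ∃ ζ, Points.ofPt (𝟙 _) ζ = ω := ⟨_, Points.ofScheme_toScheme Wo ω⟩
    rw [Points.map_ofPt, Category.id_comp] at hω₁ hω₂
    have hζ₁ : q₁.left ζ = x i := toScheme_eq_of_ofPt_yon _ _ _ hω₁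
    have hζ₂ : q₂.left ζ = u₀ := toScheme_eq_of_ofPt_yon _ _ _ (by
      rw [← hψ₂, ← Points.map_ofPt, hω₂, hwu])
    obtain ⟨j, rfl⟩ := hcov ζ i hζ₂ hζ₁
    refine Set.mem_iUnion.2 ⟨⟨⟨i, j⟩⟩, ⟨z i j, (hz i j).1⟩, ?_⟩
    rw [← hω₂]
    exact ofPt_yon_comp _ ψ _

end AlgSpEtSplit
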