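import Groth.Agent.AlgSpEtSplit.Core
import Groth.Agent.AlgSpLib.DecentTop
import Groth.Agent.AlgSpLib.RelDim
import Groth.Agent.AlgSpLib.Qc
import Groth.Agent.S9335

/-!
# Lifting quasi-finite points to charts; finiteness of the points above a point of a chart
-/

set_option autoImplicit false
set_option backward.isDefEq.respectTransparency false
set_option backward.isDefEq.respectTransparency.types false
universe u
open CategoryTheory CategoryTheory.Limits AlgebraicGeometry Topology
open AlgSp AlgSpLib

namespace AlgSpEtSplit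

variable {S : Scheme.{u}} {X Y : Space S} (f : X ⟶ Y) {V : Over S} (b : (yon S).obj V ⟶ Y.obj)

/-- "Quasi-finite and locally of finite type near a point", as a condition for `HasAtMor`. -/
abbrev NearLqf : ∀ (U V : Scheme.{u}), (U ⟶ V) → U → Prop :=
  fun U _ h u => ∃ W : U.Opens, u ∈ W ∧ LocallyQuasiFinite (W.ι ≫ h) ∧ LocallyOfFiniteType (W.ι ≫ h)

theorem exists_qf_lift (hf1 : LocP @LocallyOfFiniteType f.hom) {X' : Over S}
    (c : (yon S).obj X' ⟶ pullback f.hom b) (hc : RepWith @Etale c) (hcs : RepWith @Surjective c)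
    (h : X' ⟶ V) (he : c ≫ pullback.snd f.hom b = (yon S).map h) (v : V.left) (ξ : Points (pullback f.hom b))
    (hξ : Points.map (pullback.snd f.hom b) ξ = Points.ofPt (𝟙 _) v)
    (hq : HasAtMor NearLqf f.hom (Points.map (pullback.fst f.hom b) ξ)) :
    ∃ x' : X'.left, Points.ofPt c x' = ξ ∧ h.left x' = v ∧ h.left.QuasiFiniteAt x' := by
  have sqV := IsPullback.of_hasPullback f.hom b
  have hV : IsAlgSpace ((yon S).obj V) := IsAlgSpace.yon_obj V
  have e : c ≫ pullback.snd f.hom b = (yon S).map h ≫ 𝟙 _ := by rw [he, Category.comp_id]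
  haveI : LocallyOfFiniteType h.left :=
    locP_of_isPullback X.property Y.property hV sqV hf1 c (𝟙 _) h hc (repWith_id _ _) e
  obtain ⟨x', rfl⟩ := surjective_ofPt hcs ξ
  refine ⟨x', rfl, ?_, ?_⟩
  · rw [Points.map_ofPt, he] at hξ
    exact toScheme_eq_of_ofPt_yon h x' v hξ
  · rw [hasAtMor_near_lqf_iff X.property Y.property hf1,
      ← hasAtMor_fibreDim_baseChange X.property Y.property hV sqV hf1 (fun t => t = 0)] at hq
    exact Scheme.Hom.quasiFiniteAt_iff_isOpen_singleton_asFiber.2 ((fibreDimAt_eq_zero_iff h.left x').1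
      ((hasAtMor_iff (etInv_fibreDim fun t => t = 0) hc (repWith_id _ _) e x').1 hq))

/-- Over a decent target, only finitely many points of a base change to an affine chart map to a given point. -/
theorem finite_points_over_of_decent [CompactSpace V.left] (hb : RepWith @Etale b) (hd : IsDecent Y.obj)
    (x : Points X.obj) : (Points.map (pullback.fst f.hom b) ⁻¹' {x}).Finite := by
  obtain ⟨r, rfl⟩ := Points.mk_surjective x
  obtain ⟨p, hp, -, hqc⟩ := hd (Points.map f.hom (Points.mk r))
  rw [Points.map_mk] at hp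
  obtain ⟨Ω, hΩ, w, β, α, hαβ⟩ := Points.mk_eq_mk_iff.1 hp
  letI := hΩ
  have e0 : (yon S).map α ≫ (r.map f.hom).toHom = (yon S).map β ≫ p.toHom := by
    apply (AlgSp.J S).uliftYonedaEquiv.injective
    rw [← GrothendieckTopology.uliftYonedaEquiv_naturality, ← GrothendieckTopology.uliftYonedaEquiv_naturality,
      FieldPt.uliftYonedaEquiv_toHom, FieldPt.uliftYonedaEquiv_toHom]
    exact hαβ.symm
  rw [FieldPt.toHom_map] at e0
  let ρ : (yon S).obj (Over.mk w) ⟶ X.obj := (yon S).map α ≫ r.toHom
  haveI : IsAffineHom β.left := inferInstanceAs (IsAffineHom (show Spec (CommRingCat.of Ω) ⟶ Spec (CommRingCat.of p.K) from β.left))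
  have hρ : RepWith @QuasiCompact (ρ ≫ f.hom) := by
    rw [Category.assoc, e0]
    exact repWith_comp ((repWith_yon_map_iff (P := (@QuasiCompact : MorphismProperty Scheme.{u})) β).2
      inferInstance) hqc
  obtain ⟨Z, zV, zK, sqZ⟩ := exists_isPullback_yon b (ρ ≫ f.hom) hb.rep
  haveI : Etale zK.left := etale_left (repWith_of_isPullback sqZ hb)
  haveI : QuasiCompact zV.left :=
    (repWith_yon_map_iff (P := (@QuasiCompact : MorphismProperty Scheme.{u})) zV).1
      (repWith_of_isPullback sqZ.flip hρ)
  haveI : CompactSpace Z.left := QuasiCompact.compactSpace_of_compactSpace zV.left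
  haveI : LocallyQuasiFinite zK.left := locallyQuasiFinite_of_etale zK.left
  haveI : IsLocallyArtinian (Over.mk w).left := inferInstanceAs (IsLocallyArtinian (Spec (CommRingCat.of Ω)))
  haveI : IsLocallyArtinian Z.left := .of_locallyQuasiFinite zK.left
  haveI : Finite Z.left := finite_of_compact_of_discrete
  have sqV := IsPullback.of_hasPullback f.hom b
  let l : (yon S).obj Z ⟶ pullback f.hom b := sqV.lift ((yon S).map zK ≫ ρ) ((yon S).map zV)
    (by rw [Category.assoc, sqZ.w])
  have sql : IsPullback l ((yon S).map zK) (pullback.fst f.hom b) ρ :=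
    IsPullback.of_right (h₁₂ := pullback.snd f.hom b) (by rw [sqV.lift_snd]; exact sqZ) (sqV.lift_fst _ _ _)
      sqV.flip
  haveI : Finite (Points ((yon S).obj Z)) := Finite.of_equiv _ (Points.schemeEquiv Z)
  refine (Set.finite_range (Points.map l)).subset fun ξ hξ => ?_
  obtain ⟨ω, hω, -⟩ := exists_point_isPullback sql ξ
    (Points.ofPt (𝟙 _) (IsLocalRing.closedPoint Ω : Spec (CommRingCat.of Ω)))
    (by
      rw [Points.map_ofPt, Category.id_comp]
      refine (Set.mem_singleton_iff.1 hξ).trans ?_
      rw [ofPt_yon_comp]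
      exact (Points.ofPt_toHom r _).symm)
  exact ⟨ω, hω⟩

/-- Over a quasi-compact chart of the base change, only finitely many quasi-finite points map to a given point. -/
theorem finite_points_over_of_qc [IsAffine V.left] (hf1 : LocP @LocallyOfFiniteType f.hom) {X' : Over S}
    [IsAffine X'.left] (c : (yon S).obj X' ⟶ pullback f.hom b) (hc : RepWith @Etale c)
    (hcs : RepWith @Surjective c) (v : V.left) :
    {ξ : Points (pullback f.hom b) | Points.map (pullback.snd f.hom b) ξ = Points.ofPt (𝟙 _) v ∧
      HasAtMor NearLqf f.hom (Points.map (pullback.fst f.hom b) ξ)}.Finite := by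
  obtain ⟨h, hh⟩ := (yon S).map_surjective (c ≫ pullback.snd f.hom b)
  haveI : LocallyOfFiniteType h.left :=
    locP_of_isPullback X.property Y.property (IsAlgSpace.yon_obj V) (IsPullback.of_hasPullback f.hom b) hf1
      c (𝟙 _) h hc (repWith_id _ _) (by rw [hh, Category.comp_id])
  refine ((Groth.Agent.S9335.result h.left v).image (Points.ofPt c)).subset ?_
  rintro ξ ⟨h1, h2⟩
  obtain ⟨x', e, hv, hq⟩ := exists_qf_lift f b hf1 c hc hcs h hh.symm v ξ h1 h2
  exact ⟨x', ⟨hv, hq⟩, e⟩

end AlgSpEtSplit
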